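import Groth.Prelude.Def_W4stkflatp2Cpct
import Mathlib.AlgebraicGeometry.Morphisms.Separated
import Mathlib.AlgebraicGeometry.Morphisms.Proper
import Mathlib.CategoryTheory.Localization.CalculusOfFractions

/-!
# The right calculus of fractions of compactifications
-/

set_option autoImplicit false
set_option linter.style.haveILetI false
universe u

open CategoryTheory CategoryTheory.Limits AlgebraicGeometry

namespace Groth.Agent.CpctFrac28

theorem section_facts {X Y : Scheme.{u}} (t : X ⟶ Y) (U : Y.Opens) (V : X.Opens) (e : V ≤ t ⁻¹ᵁ U)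
    (hU : IsCompact (U : Set Y)) (s : (U : Scheme.{u}) ⟶ X) (hst : s ≫ t = U.ι)
    (hsV : ∀ x, s.base x ∈ V) (h : t.resLE U V e ≫ s = V.ι) :
    IsIso (t.resLE U V e) ∧ IsCompact (V : Set X) := by
  have hrange : Set.range s.base ⊆ Set.range V.ι.base := by
    rintro _ ⟨x, rfl⟩
    rw [Scheme.Opens.range_ι]; exact hsV x
  refine ⟨⟨⟨IsOpenImmersion.lift V.ι s hrange, ?_, ?_⟩⟩, ?_⟩
  · rw [← cancel_mono V.ι, Category.assoc, IsOpenImmersion.lift_fac, h, Category.id_comp]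
  · rw [← cancel_mono U.ι, Category.assoc, Scheme.Hom.resLE_comp_ι, IsOpenImmersion.lift_fac_assoc, hst,
      Category.id_comp]
  · haveI : CompactSpace (U : Scheme.{u}) := isCompact_iff_compactSpace.mp hU
    have : (V : Set X) = Set.range s.base := by
      refine le_antisymm (fun x hx => ?_) (by rintro _ ⟨x, rfl⟩; exact hsV x)
      exact ⟨(t.resLE U V e).base ⟨x, hx⟩, congrArg (fun m : (V : Scheme.{u}) ⟶ X => m.base ⟨x, hx⟩) h⟩
    rw [this]
    exact isCompact_range s.continuous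

variable {S : Scheme.{u}}

theorem restr_id (A : Cpct.Pair S) : Cpct.restr (𝟙 A) = 𝟙 _ :=
  congrArg CommaMorphism.left (Cpct.openOver.map_id A)

theorem restr_comp {A B C : Cpct.Pair S} (f : A ⟶ B) (g : B ⟶ C) :
    Cpct.restr (f ≫ g) = Cpct.restr f ≫ Cpct.restr g :=
  congrArg CommaMorphism.left (Cpct.openOver.map_comp f g)

theorem exists_eq_precomp {X Y : Cpct.Pair S} (f₁ f₂ : X ⟶ Y) (hab : Cpct.restr f₁ = Cpct.restr f₂) :
    ∃ (X' : Cpct.Pair S) (t : X' ⟶ X), Cpct.isoOpen S t ∧ t ≫ f₁ = t ≫ f₂ := by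
  haveI := X.isProper; haveI := Y.isProper
  let a := f₁.bar
  let b := f₂.bar
  let i := equalizer.ι a b
  haveI : IsClosedImmersion i.left := inferInstance
  let V : (equalizer a b).left.Opens := i.left ⁻¹ᵁ X.U
  let o : Over.mk (X.U.ι ≫ X.bar.hom) ⟶ X.bar := Over.homMk X.U.ι rfl
  have ho : o ≫ a = o ≫ b := by
    ext1
    show X.U.ι ≫ f₁.bar.left = X.U.ι ≫ f₂.bar.left
    rw [← show Cpct.restr f₁ ≫ Y.U.ι = _ from Scheme.Hom.resLE_comp_ι _ _, hab]
    exact Scheme.Hom.resLE_comp_ι _ _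
  let l := equalizer.lift o ho
  have hl : l.left ≫ i.left = X.U.ι :=
    congrArg CommaMorphism.left (equalizer.lift_ι o ho)
  have hsV : ∀ x, l.left.base x ∈ V := fun x => by
    show i.left.base (l.left.base x) ∈ X.U
    rw [← Scheme.Hom.comp_apply, hl]; exact x.2
  have h : i.left.resLE X.U V le_rfl ≫ l.left = V.ι := by
    rw [← cancel_mono i.left, Category.assoc]
    exact (congrArg (i.left.resLE X.U V le_rfl ≫ ·) hl).trans (Scheme.Hom.resLE_comp_ι _ _)
  obtain ⟨hiso, hcpt⟩ := section_facts i.left X.U V le_rfl X.isCompact l.left hl hsV h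
  haveI hproper : IsProper (equalizer a b).hom := by rw [← Over.w i]; infer_instance
  let P : Cpct.Pair S := ⟨equalizer a b, V, hproper, hcpt⟩
  let j : P ⟶ X := ⟨i, fun x hx => hx⟩
  refine ⟨P, j, hiso, ?_⟩
  exact Cpct.Pair.Hom.ext (equalizer.condition a b)


theorem hasRightCalculusOfFractions (S : Scheme.{u}) : (Cpct.isoOpen S).HasRightCalculusOfFractions where
  id_mem A := by
    show IsIso (Cpct.restr (𝟙 A))
    rw [restr_id]; infer_instance
  comp_mem f g (hf : IsIso (Cpct.restr f)) (hg : IsIso (Cpct.restr g)) := by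
    show IsIso (Cpct.restr (f ≫ g))
    rw [restr_comp]; infer_instance
  exists_rightFraction := fun A B φ => by
    haveI : IsIso (Cpct.restr φ.s) := φ.hs
    haveI := A.isProper; haveI := B.isProper; haveI := φ.Y'.isProper
    let a := φ.f.bar.left
    let b := φ.s.bar.left
    let p₁ := pullback.fst a b
    let p₂ := pullback.snd a b
    let V : (pullback a b).Opens := p₁ ⁻¹ᵁ A.U ⊓ p₂ ⁻¹ᵁ B.U
    let w := Cpct.restr φ.f ≫ inv (Cpct.restr φ.s) ≫ B.U.ι
    have hw : A.U.ι ≫ a = w ≫ b := by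
      simp only [w, a, b, Category.assoc]
      rw [← show Cpct.restr φ.s ≫ φ.Y'.U.ι = B.U.ι ≫ φ.s.bar.left from Scheme.Hom.resLE_comp_ι _ _,
        IsIso.inv_hom_id_assoc]
      exact (Scheme.Hom.resLE_comp_ι _ _).symm
    let s : (A.U : Scheme.{u}) ⟶ pullback a b := pullback.lift A.U.ι w hw
    have hs₁ : s ≫ p₁ = A.U.ι := pullback.lift_fst _ _ _
    have hs₂ : s ≫ p₂ = w := pullback.lift_snd _ _ _
    have hsV : ∀ x, s.base x ∈ V := fun x => by
      refine ⟨?_, ?_⟩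
      · show p₁.base (s.base x) ∈ A.U
        rw [← Scheme.Hom.comp_apply, hs₁]; exact x.2
      · show p₂.base (s.base x) ∈ B.U
        rw [← Scheme.Hom.comp_apply, hs₂]
        exact ((inv (Cpct.restr φ.s)).base ((Cpct.restr φ.f).base x)).2
    have e₁ : V ≤ p₁ ⁻¹ᵁ A.U := inf_le_left
    have e₂ : V ≤ p₂ ⁻¹ᵁ B.U := inf_le_right
    have h : p₁.resLE A.U V e₁ ≫ s = V.ι := by
      apply pullback.hom_ext
      · rw [Category.assoc, hs₁, Scheme.Hom.resLE_comp_ι]
      · rw [Category.assoc, hs₂, show V.ι ≫ pullback.snd a b = p₂.resLE B.U V e₂ ≫ B.U.ι from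
          (Scheme.Hom.resLE_comp_ι _ _).symm]
        show p₁.resLE A.U V e₁ ≫ Cpct.restr φ.f ≫ inv (Cpct.restr φ.s) ≫ B.U.ι = _
        rw [← Category.assoc, ← Category.assoc]
        congr 1
        rw [IsIso.comp_inv_eq, ← cancel_mono φ.Y'.U.ι, Category.assoc, Category.assoc]
        show p₁.resLE A.U V e₁ ≫ (a.resLE φ.Y'.U A.U _) ≫ φ.Y'.U.ι =
          p₂.resLE B.U V e₂ ≫ b.resLE φ.Y'.U B.U _ ≫ φ.Y'.U.ι
        exact ((congrArg (p₁.resLE A.U V e₁ ≫ ·) (Scheme.Hom.resLE_comp_ι a _)).trans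
          ((Scheme.Hom.resLE_comp_ι_assoc p₁ _ a).trans ((congrArg (V.ι ≫ ·) pullback.condition).trans
            (Scheme.Hom.resLE_comp_ι_assoc p₂ e₂ b).symm))).trans
              (congrArg (p₂.resLE B.U V e₂ ≫ ·) (Scheme.Hom.resLE_comp_ι b _)).symm
    obtain ⟨hiso, hcpt⟩ := section_facts p₁ A.U V e₁ A.isCompact s hs₁ hsV h
    haveI : IsProper b := by
      haveI : IsProper (b ≫ φ.Y'.bar.hom) := by rw [Over.w]; exact B.isProper
      exact IsProper.of_comp b φ.Y'.bar.hom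
    let P : Cpct.Pair S := ⟨Over.mk (p₁ ≫ A.bar.hom), V, inferInstanceAs (IsProper (p₁ ≫ A.bar.hom)), hcpt⟩
    have hw₂ : p₂ ≫ B.bar.hom = p₁ ≫ A.bar.hom := by
      rw [← Over.w φ.f.bar, ← Over.w φ.s.bar]
      exact (pullback.condition_assoc _).symm
    let t : P ⟶ A := ⟨Over.homMk p₁ rfl, fun x hx => hx.1⟩
    let g : P ⟶ B := ⟨Over.homMk p₂ hw₂, fun x hx => hx.2⟩
    refine ⟨⟨t, hiso, g⟩, ?_⟩
    apply Cpct.Pair.Hom.ext
    ext1
    exact pullback.condition
  ext := fun X Y Y' f₁ f₂ t (ht : IsIso (Cpct.restr t)) hf => by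
    obtain ⟨X', j, hj, hjf⟩ := exists_eq_precomp f₁ f₂
      (by rw [← cancel_mono (Cpct.restr t), ← restr_comp, ← restr_comp, hf])
    exact ⟨X', j, hj, hjf⟩

end Groth.Agent.CpctFrac28
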