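import Groth.Agent.Lib.CpctFrac28.Basic
import Groth.Agent.Lib.SchImage14.Immersion
import Mathlib.CategoryTheory.Localization.Predicate

/-!
# The open part is a localization functor
-/

set_option autoImplicit false
set_option linter.style.haveILetI false
universe v v' w w' u

open CategoryTheory CategoryTheory.Limits AlgebraicGeometry

namespace Groth.Agent.CpctFrac28

theorem isLocalization_of_fractions {C : Type w} [Category.{v} C] {D : Type w'} [Category.{v'} D]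
    (W : MorphismProperty C) [W.HasRightCalculusOfFractions] (F : C ⥤ D) [F.EssSurj]
    (hinv : W.IsInvertedBy F)
    (hfull : ∀ A B (h : F.obj A ⟶ F.obj B), ∃ (A' : C) (t : A' ⟶ A) (g : A' ⟶ B), W t ∧ F.map t ≫ h = F.map g)
    (hfaith : ∀ A B (f₁ f₂ : A ⟶ B), F.map f₁ = F.map f₂ →
      ∃ (A' : C) (t : A' ⟶ A), W t ∧ t ≫ f₁ = t ≫ f₂) :
    F.IsLocalization W := by
  let G := Localization.lift F hinv W.Q
  let e : W.Q ⋙ G ≅ F := Localization.fac F hinv W.Q
  haveI := Localization.essSurj W.Q W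
  haveI : G.EssSurj := ⟨fun d => ⟨W.Q.obj (F.objPreimage d), ⟨e.app _ ≪≫ F.objObjPreimageIso d⟩⟩⟩
  have hfull' : ∀ A B (m : G.obj (W.Q.obj A) ⟶ G.obj (W.Q.obj B)),
      ∃ f, G.map f = m := by
    intro A B m
    obtain ⟨A', t, g, ht, hg⟩ := hfull A B (e.inv.app A ≫ m ≫ e.hom.app B)
    haveI : IsIso (W.Q.map t) := Localization.inverts W.Q W t ht
    refine ⟨inv (W.Q.map t) ≫ W.Q.map g, ?_⟩
    rw [G.map_comp, G.map_inv, IsIso.inv_comp_eq, ← cancel_mono (e.hom.app B)]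
    have h1 : G.map (W.Q.map g) ≫ e.hom.app B = e.hom.app A' ≫ F.map g := e.hom.naturality g
    have h2 : G.map (W.Q.map t) ≫ e.hom.app A = e.hom.app A' ≫ F.map t := e.hom.naturality t
    rw [h1, ← hg, ← reassoc_of% h2, Iso.hom_inv_id_app_assoc, Category.assoc]
  have hfaith' : ∀ A B (f₁ f₂ : W.Q.obj A ⟶ W.Q.obj B), G.map f₁ = G.map f₂ → f₁ = f₂ := by
    intro A B f₁ f₂ heq
    obtain ⟨φ₁, rfl⟩ := Localization.exists_rightFraction W.Q W f₁
    obtain ⟨φ₂, rfl⟩ := Localization.exists_rightFraction W.Q W f₂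
    obtain ⟨ψ, hψ⟩ := (MorphismProperty.LeftFraction.mk φ₁.s φ₂.s φ₂.hs).exists_rightFraction
    dsimp at hψ
    haveI := Localization.inverts W.Q W φ₁.s φ₁.hs
    haveI := Localization.inverts W.Q W φ₂.s φ₂.hs
    haveI := Localization.inverts W.Q W ψ.s ψ.hs
    have e₁ : W.Q.map (ψ.s ≫ φ₁.s) ≫ φ₁.map W.Q (Localization.inverts W.Q W) = W.Q.map (ψ.s ≫ φ₁.f) := by
      rw [W.Q.map_comp, Category.assoc, φ₁.map_s_comp_map, W.Q.map_comp]
    have e₂ : W.Q.map (ψ.s ≫ φ₁.s) ≫ φ₂.map W.Q (Localization.inverts W.Q W) = W.Q.map (ψ.f ≫ φ₂.f) := by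
      rw [hψ, W.Q.map_comp, Category.assoc, φ₂.map_s_comp_map, W.Q.map_comp]
    have hF : F.map (ψ.s ≫ φ₁.f) = F.map (ψ.f ≫ φ₂.f) := by
      have h3 := congrArg (fun k => G.map (W.Q.map (ψ.s ≫ φ₁.s)) ≫ k) heq
      simp only [← G.map_comp, e₁, e₂] at h3
      have n1 : G.map (W.Q.map (ψ.s ≫ φ₁.f)) ≫ e.hom.app B = e.hom.app _ ≫ F.map (ψ.s ≫ φ₁.f) :=
        e.hom.naturality _
      have n2 : G.map (W.Q.map (ψ.f ≫ φ₂.f)) ≫ e.hom.app B = e.hom.app _ ≫ F.map (ψ.f ≫ φ₂.f) :=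
        e.hom.naturality _
      rw [h3, n2] at n1
      exact ((cancel_epi _).mp n1).symm
    obtain ⟨A', t, ht, htf⟩ := hfaith _ _ _ _ hF
    haveI := Localization.inverts W.Q W t ht
    haveI : IsIso (W.Q.map (ψ.s ≫ φ₁.s)) := by rw [W.Q.map_comp]; infer_instance
    rw [← cancel_epi (W.Q.map (ψ.s ≫ φ₁.s)), e₁, e₂, ← cancel_epi (W.Q.map t), ← W.Q.map_comp,
      ← W.Q.map_comp, htf]
  haveI : G.Full := ⟨fun {X Y} m => by
    let a := W.Q.objObjPreimageIso X
    let b := W.Q.objObjPreimageIso Y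
    obtain ⟨f, hf⟩ := hfull' _ _ (G.map a.hom ≫ m ≫ G.map b.inv)
    refine ⟨a.inv ≫ f ≫ b.hom, ?_⟩
    simp [hf, ← Functor.map_comp_assoc]⟩
  haveI : G.Faithful := ⟨fun {X Y f₁ f₂} h => by
    let a := W.Q.objObjPreimageIso X
    let b := W.Q.objObjPreimageIso Y
    have := hfaith' _ _ (a.hom ≫ f₁ ≫ b.inv) (a.hom ≫ f₂ ≫ b.inv) (by simp [h])
    simpa using this⟩
  haveI : G.IsEquivalence := { }
  exact Functor.IsLocalization.of_equivalence_target W.Q W F G.asEquivalence e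

variable {S : Scheme.{u}}

theorem openFunctor_map_left {A B : Cpct.Pair S} (f : A ⟶ B) :
    ((Cpct.openFunctor S).map f).hom.left = Cpct.restr f := rfl

theorem isLocalization_openFunctor (S : Scheme.{u}) [CompactSpace S] [QuasiSeparatedSpace S] :
    (Cpct.openFunctor S).IsLocalization (Cpct.isoOpen S) := by
  haveI := hasRightCalculusOfFractions S
  haveI : (Cpct.openFunctor S).EssSurj := ⟨fun X => by
    obtain ⟨A, ⟨i⟩⟩ := X.property
    exact ⟨A, ⟨ObjectProperty.isoMk _ i⟩⟩⟩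
  refine isLocalization_of_fractions _ _ (fun A B f hf => ?_) (fun A B h => ?_) (fun A B f₁ f₂ h => ?_)
  · haveI : IsIso (Cpct.restr f) := hf
    haveI : IsIso ((Cpct.openFunctor S).map f).hom := by
      haveI : IsIso ((Over.forget S).map ((Cpct.openFunctor S).map f).hom) :=
        inferInstanceAs (IsIso (Cpct.restr f))
      exact isIso_of_reflects_iso _ (Over.forget S)
    haveI : IsIso ((ObjectProperty.ι _).map ((Cpct.openFunctor S).map f)) :=
      inferInstanceAs (IsIso ((Cpct.openFunctor S).map f).hom)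
    exact isIso_of_reflects_iso _ (ObjectProperty.ι (Cpct.IsCompactifyable S))
  · haveI := A.isProper; haveI := B.isProper
    let m : (A.U : Scheme.{u}) ⟶ (B.U : Scheme.{u}) := h.hom.left
    have hm : m ≫ B.U.ι ≫ B.bar.hom = A.U.ι ≫ A.bar.hom := Over.w h.hom
    let p₁ := pullback.fst A.bar.hom B.bar.hom
    let p₂ := pullback.snd A.bar.hom B.bar.hom
    let k : (A.U : Scheme.{u}) ⟶ pullback A.bar.hom B.bar.hom :=
      pullback.lift A.U.ι (m ≫ B.U.ι) (by rw [Category.assoc]; exact hm.symm)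
    have hk₁ : k ≫ p₁ = A.U.ι := pullback.lift_fst _ _ _
    have hk₂ : k ≫ p₂ = m ≫ B.U.ι := pullback.lift_snd _ _ _
    haveI : IsImmersion k := by
      haveI : IsImmersion (k ≫ p₁) := by rw [hk₁]; infer_instance
      exact IsImmersion.of_comp k p₁
    haveI : CompactSpace (A.U : Scheme.{u}) := isCompact_iff_compactSpace.mp A.isCompact
    haveI : QuasiCompact k := by
      haveI : QuasiCompact (k ≫ p₁ ≫ A.bar.hom) := by
        rw [← Category.assoc, hk₁]; exact quasiCompact_of_compactSpace _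
      exact QuasiCompact.of_comp k (p₁ ≫ A.bar.hom)
    haveI := SchImage14.isOpenImmersion_toImage k (Or.inl inferInstance)
    let V := k.toImage.opensRange
    let t₀ := k.imageι ≫ p₁
    have ht₀ : k.toImage ≫ t₀ = A.U.ι := by
      rw [← Category.assoc, Scheme.Hom.toImage_imageι, hk₁]
    have e : V ≤ t₀ ⁻¹ᵁ A.U := by
      rintro _ ⟨x, rfl⟩
      show t₀.base (k.toImage.base x) ∈ A.U
      rw [← Scheme.Hom.comp_apply, ht₀]; exact x.2
    have hV : k.toImage.isoOpensRange.inv ≫ k.toImage = V.ι := k.toImage.isoOpensRange_inv_comp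
    have hsec : t₀.resLE A.U V e ≫ k.toImage = V.ι := by
      refine Eq.trans ?_ hV
      congr 1
      rw [← cancel_mono A.U.ι, Scheme.Hom.resLE_comp_ι, ← ht₀, ← Category.assoc _ k.toImage]
      exact congrArg (· ≫ t₀) hV.symm
    obtain ⟨hiso, hcpt⟩ := section_facts t₀ A.U V e A.isCompact k.toImage ht₀
      (fun x => ⟨x, rfl⟩) hsec
    haveI : IsProper (t₀ ≫ A.bar.hom) := inferInstance
    let P : Cpct.Pair S := ⟨Over.mk (t₀ ≫ A.bar.hom), V, inferInstanceAs (IsProper (t₀ ≫ A.bar.hom)), hcpt⟩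
    let t : P ⟶ A := ⟨Over.homMk t₀ rfl, fun x hx => e hx⟩
    have hg : (k.imageι ≫ p₂) ≫ B.bar.hom = t₀ ≫ A.bar.hom := by
      simp only [t₀, Category.assoc, p₁, p₂, pullback.condition]
    let g : P ⟶ B := ⟨Over.homMk (k.imageι ≫ p₂) hg, fun x hx => by
      obtain ⟨y, rfl⟩ := hx
      show (k.imageι ≫ p₂).base (k.toImage.base y) ∈ B.U
      rw [← Scheme.Hom.comp_apply, ← Category.assoc, Scheme.Hom.toImage_imageι, hk₂]
      exact (m.base y).2⟩
    refine ⟨P, t, g, hiso, ?_⟩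
    apply ObjectProperty.hom_ext
    ext1
    show t₀.resLE A.U V e ≫ m = (k.imageι ≫ p₂).resLE B.U V _
    rw [← cancel_mono B.U.ι]
    refine Eq.trans ?_ (Scheme.Hom.resLE_comp_ι _ _).symm
    rw [Category.assoc, ← hk₂]
    calc t₀.resLE A.U V e ≫ k ≫ p₂ = t₀.resLE A.U V e ≫ (k.toImage ≫ k.imageι) ≫ p₂ := by
          rw [Scheme.Hom.toImage_imageι]
      _ = (t₀.resLE A.U V e ≫ k.toImage) ≫ k.imageι ≫ p₂ := by simp only [Category.assoc]
      _ = _ := by rw [hsec]
  · haveI := A.isProper; haveI := B.isProper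
    have hr : Cpct.restr f₁ = Cpct.restr f₂ :=
      congrArg (fun k : (Cpct.openFunctor S).obj A ⟶ (Cpct.openFunctor S).obj B => k.hom.left) h
    exact exists_eq_precomp f₁ f₂ hr

end Groth.Agent.CpctFrac28
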